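import Groth.Agent.Lib.CdBr2.Torsion
import Groth.Agent.Lib.AcyN18.Main

/-!
# Restriction of second cohomology of torsion sheaves to open subschemes of curves
-/

set_option autoImplicit false
set_option backward.isDefEq.respectTransparency false
set_option backward.isDefEq.respectTransparency.types false
set_option linter.style.haveILetI false
set_option linter.all false

universe u

open CategoryTheory CategoryTheory.Limits CategoryTheory.Abelian AlgebraicGeometry Opposite
open GrothLib.EtSite GrothLib.EtTrace21 GrothLib.GalCd GrothLib.EtColim GrothLib.CdBr2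

noncomputable section

namespace GrothLib.CurveH2Surj18

variable {X : Scheme.{u}}

/-- The sheaf has no stalks outside the closed points. -/
def ClosedSupp (R : EtCoh.Ab X) : Prop :=
  ∀ (Ω : Type u) [Field Ω] [IsSepClosed Ω] (ξ : Spec (CommRingCat.of Ω) ⟶ X),
    ¬ IsClosed ({ξ.base (default : Spec (CommRingCat.of Ω))} : Set X) → IsZero ((EtCoh.stalk ξ).obj R)

theorem ClosedSupp.pull {R : EtCoh.Ab X} (hR : ClosedSupp R) (U : X.Opens) :
    ClosedSupp ((EtCoh.pull U.ι).obj R) := by
  intro Ω _ _ ξ hnc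
  refine (hR Ω (ξ ≫ U.ι) fun hc => hnc ?_).of_iso ((pullStalkIso ξ U.ι).app R)
  have h := hc.preimage U.ι.continuous
  have e : U.ι.base ⁻¹' {(ξ ≫ U.ι).base default} = {ξ.base default} := by
    rw [← U.ι.isOpenEmbedding.injective.preimage_image {ξ.base default}, Set.image_singleton]
    rfl
  exact e ▸ h

theorem ClosedSupp.of_mono {R R' : EtCoh.Ab X} (a : R' ⟶ R) [Mono a] (hR : ClosedSupp R) : ClosedSupp R' :=
  fun Ω _ _ ξ hnc => IsZero.of_mono ((EtCoh.stalk ξ).map a) (hR Ω ξ hnc)

theorem ext_of_closedSupp [AlgebraicGeometry.IsNoetherian X]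
    (hsep : ∀ x : X, IsClosed ({x} : Set X) → IsSepClosed (X.residueField x))
    {R : EtCoh.Ab X} (hR : ClosedSupp R) (q : ℕ) (a : EtCoh.H X R (q + 1)) : a = 0 :=
  H_eq_zero_of_supp_closedPts hsep R hR (q + 1) q.succ_pos a

theorem hsep_open (hsep : ∀ x : X, IsClosed ({x} : Set X) → IsSepClosed (X.residueField x))
    [JacobsonSpace X] (U : X.Opens) :
    ∀ x : U.toScheme, IsClosed ({x} : Set U.toScheme) → IsSepClosed (U.toScheme.residueField x) := fun x hx => by
  have hc : IsClosed ({U.ι.base x} : Set X) := by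
    have hlc : IsLocallyClosed ({U.ι.base x} : Set X) := by
      have h := hx.isLocallyClosed.image U.ι.isOpenEmbedding.isInducing U.ι.isOpenEmbedding.isOpen_range.isLocallyClosed
      rwa [Set.image_singleton] at h
    exact isClosed_singleton_of_isLocallyClosed_singleton hlc
  haveI := hsep _ hc
  exact isSepClosed_of_ringEquiv (asIso (U.ι.residueFieldMap x)).commRingCatIsoToRingEquiv

/-- Sections near the closed points extend. -/
theorem epi_unit [AlgebraicGeometry.IsNoetherian X] (U : X.Opens) [EtShriek.JCont U.ι] {R : EtCoh.Ab X}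
    (hR : ClosedSupp R) : Epi ((GrothLib.ExtZero.restrPushAdj U.ι).unit.app R) := by
  classical
  let u := (GrothLib.ExtZero.restrPushAdj U.ι).unit.app R
  haveI : Sheaf.IsLocallySurjective u := by
    refine ⟨fun {V} s => ?_⟩
    rw [mem_topology_iff]
    intro x
    obtain ⟨_, ⟨A, hA, rfl⟩, hxA, -⟩ := V.left.isBasis_affineOpens.exists_subset_of_mem_open
      (Set.mem_univ x) isOpen_univ
    let A₀ : V.left.Opens := A
    let V₀ := opensObj V A₀
    let g : V₀ ⟶ V := opensHom V A₀
    haveI : IsAffine V₀.left := (hA : IsAffine A₀.toScheme)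
    let f : V₀.left ⟶ X := V₀.hom
    haveI : Etale f := V₀.prop
    haveI : IsLocallyNoetherian V₀.left := LocallyOfFiniteType.isLocallyNoetherian f
    haveI : AlgebraicGeometry.IsNoetherian V₀.left := {}
    let W := (EtShriek.compEtale U.ι).obj ((EtCoh.bc U.ι).obj V₀)
    let c : W ⟶ V₀ := (GrothLib.ExtZero.compBCAdj U.ι).counit.app V₀
    haveI : Etale (c.left : W.left ⟶ V₀.left) := inferInstanceAs (Etale c.left)
    let s₀ : EtCoh.sect R W := ((EtCoh.push U.ι).obj ((EtShriek.restrAlong U.ι).obj R)).obj.map g.op s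
    let S : Set V₀.left := c.left.base '' EtShriek.sectSupp R W s₀
    have hSc : ∀ v ∈ S, IsClosed ({f.base v} : Set X) := by
      rintro v ⟨w, hw, rfl⟩
      have e : f.base (c.left.base w) = W.hom.base w := congrArg (fun k : W.left ⟶ X => k.base w) (GrothLib.EtSec.hom_left c)
      rw [e]
      by_contra hnc
      obtain ⟨t, ht⟩ := exists_fib (gpt (W.hom.base w)) (U := W) w (gpt_default _).symm
      refine (GrothLib.EtBasicB.germ_ne_zero_iff _ R t s₀).2 (ht.symm ▸ hw)
        (@Subsingleton.elim _ (AddCommGrpCat.subsingleton_of_isZero (hR _ (gpt (W.hom.base w))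
          (fun hc => hnc ((congrArg (fun y : X => IsClosed ({y} : Set X)) (gpt_default (W.hom.base w))).mp hc)))) _ _)
    have hclosedpt : ∀ v : V₀.left, IsClosed ({f.base v} : Set X) → IsClosed ({v} : Set V₀.left) := fun v hv => by
      rw [← closure_subset_iff_isClosed]
      intro w hw
      have hvw : v ⤳ w := specializes_iff_mem_closure.2 hw
      haveI : LocallyQuasiFinite f := GrothLib.EtBasicB.locallyQuasiFinite_of_unramified f
      exact (GrothLib.EtFibre.eq_of_specializes_of_discrete f v w hvw ((hvw.map f.continuous).mem_closed hv rfl).symm).symm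
    haveI : AlgebraicGeometry.IsNoetherian W.left := by
      haveI : LocallyOfFiniteType c.left := inferInstance
      haveI : IsLocallyNoetherian W.left := LocallyOfFiniteType.isLocallyNoetherian c.left
      haveI : QuasiCompact U.ι := inferInstance
      haveI : QuasiCompact c.left := MorphismProperty.pullback_fst (P := @QuasiCompact) V₀.hom U.ι inferInstance
      haveI : CompactSpace W.left := QuasiCompact.compactSpace_of_compactSpace c.left
      exact {}
    have hSfin : S.Finite := by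
      refine Set.Finite.image _ (finite_of_closed_over_closed _ (GrothLib.EtBasicB.isClosed_sectSupp R W s₀) fun w hw => ?_)
      have e : f.base (c.left.base w) = W.hom.base w := congrArg (fun k : W.left ⟶ X => k.base w) (GrothLib.EtSec.hom_left c)
      exact (congrArg (fun y : X => IsClosed ({y} : Set X)) e).mp (hSc _ ⟨w, hw, rfl⟩)
    have hScl : IsClosed S := by
      rw [← Set.biUnion_of_singleton S]
      exact hSfin.isClosed_biUnion fun v hv => hclosedpt v (hSc v hv)
    by_cases hxU : f.base (⟨x, hxA⟩ : A₀) ∈ U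
    · -- near a point of `U`
      let O : V₀.left.Opens := f ⁻¹ᵁ U
      let g' : opensObj V₀ O ⟶ V₀ := opensHom V₀ O
      let O' := opensObj V₀ O
      let lft : O'.left ⟶ U.toScheme := IsOpenImmersion.lift U.ι O'.hom (by
        rw [Scheme.Opens.range_ι]
        rintro _ ⟨p, rfl⟩
        exact p.2)
      let W' := (EtShriek.compEtale U.ι).obj ((EtCoh.bc U.ι).obj O')
      let sec : O' ⟶ W' := MorphismProperty.Over.homMk
        (pullback.lift (𝟙 _) lft ((Category.id_comp _).trans (IsOpenImmersion.lift_fac _ _ _).symm)) (by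
          change pullback.lift _ _ _ ≫ pullback.snd O'.hom U.ι ≫ U.ι = O'.hom
          rw [pullback.lift_snd_assoc, IsOpenImmersion.lift_fac])
      let d : W' ⟶ O' := (GrothLib.ExtZero.compBCAdj U.ι).counit.app O'
      let s' : EtCoh.sect R W' := ((EtCoh.push U.ι).obj ((EtShriek.restrAlong U.ι).obj R)).obj.map (g' ≫ g).op s
      have hds : d ≫ sec = 𝟙 W' := by
        apply MorphismProperty.Over.Hom.ext
        haveI : IsOpenImmersion (pullback.fst O'.hom U.ι) := inferInstance
        change pullback.fst O'.hom U.ι ≫ pullback.lift (𝟙 _) lft _ = 𝟙 _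
        rw [← cancel_mono (pullback.fst O'.hom U.ι), Category.assoc, pullback.lift_fst, Category.comp_id, Category.id_comp]
      refine ⟨O', g' ≫ g, ⟨_, hxU⟩, ⟨R.obj.map sec.op s', ?_⟩, rfl⟩
      change R.obj.map d.op (R.obj.map sec.op s') = s'
      rw [← ConcreteCategory.comp_apply, ← Functor.map_comp, ← op_comp, hds, op_id, CategoryTheory.Functor.map_id]
      rfl
    · -- away from `U` the section can be extended by zero
      let O : V₀.left.Opens := ⟨Sᶜ, hScl.isOpen_compl⟩
      let g' : opensObj V₀ O ⟶ V₀ := opensHom V₀ O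
      have hx : (⟨x, hxA⟩ : A₀) ∈ O := by
        rintro ⟨w, -, hw⟩
        refine hxU (hw ▸ ?_)
        have e : f.base (c.left.base w) = W.hom.base w := congrArg (fun k : W.left ⟶ X => k.base w) (GrothLib.EtSec.hom_left c)
        rw [e]
        exact ((pullback.snd V₀.hom U.ι).base w).2
      refine ⟨opensObj V₀ O, g' ≫ g, ⟨_, hx⟩, ⟨0, ?_⟩, rfl⟩
      refine (map_zero _).trans ?_
      let cm := (EtShriek.compEtale U.ι).map ((EtCoh.bc U.ι).map g')
      have h0 : R.obj.map cm.op s₀ = 0 := by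
        refine GrothLib.EtSite.section_eq_zero_of_germs _ _ _ fun Ω _ _ ξ t => ?_
        rw [germ_map]
        by_contra hne
        have hmem := (GrothLib.EtBasicB.germ_ne_zero_iff ξ R _ s₀).1 hne
        let p := t.left.base (default : Spec (CommRingCat.of Ω))
        have e : c.left.base (cm.left.base p) = g'.left.base
            (((GrothLib.ExtZero.compBCAdj U.ι).counit.app (opensObj V₀ O)).left.base p) :=
          congrArg (fun k : (EtShriek.compEtale U.ι).obj ((EtCoh.bc U.ι).obj (opensObj V₀ O)) ⟶ V₀ => k.left.base p)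
            ((GrothLib.ExtZero.compBCAdj U.ι).counit.naturality g')
        exact (show g'.left.base _ ∉ S from (((GrothLib.ExtZero.compBCAdj U.ι).counit.app (opensObj V₀ O)).left.base p).2)
          ⟨_, hmem, e⟩
      refine h0.symm.trans ?_
      change ((EtCoh.push U.ι).obj ((EtShriek.restrAlong U.ι).obj R)).obj.map g'.op
        (((EtCoh.push U.ι).obj ((EtShriek.restrAlong U.ι).obj R)).obj.map g.op s) = _
      rw [← ConcreteCategory.comp_apply, ← Functor.map_comp, ← op_comp]
      rfl
  exact Sheaf.epi_of_isLocallySurjective u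

variable [AlgebraicGeometry.IsNoetherian X] (hsep : ∀ x : X, IsClosed ({x} : Set X) → IsSepClosed (X.residueField x))

include hsep in
/-- Global sections of such a sheaf restrict onto those over an open. -/
theorem surjective_Hpull_zero (U : X.Opens) [PreservesFiniteLimits (EtCoh.pull U.ι)] {R : EtCoh.Ab X}
    (hR : ClosedSupp R) : Function.Surjective (EtCore.Hpull U.ι R 0) := by
  haveI := GrothLib.Constructible.jcont U.ι
  intro y
  obtain ⟨b, rfl⟩ := (Ext.mk₀_bijective _ _).2 y
  let ρ := GrothLib.ExtZero.restrIsoPull U.ι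
  let adj := GrothLib.ExtZero.restrPushAdj U.ι
  let b' : (EtShriek.restrAlong U.ι).obj (EtCoh.const X ℤ) ⟶ (EtShriek.restrAlong U.ι).obj R :=
    ρ.hom.app _ ≫ (EtCore.pullConst U.ι ℤ).hom ≫ b ≫ ρ.inv.app R
  let m := adj.unit.app R
  haveI : Epi m := epi_unit U hR
  let T := ShortComplex.mk (kernel.ι m) m (kernel.condition m)
  have hT : T.ShortExact :=
    { exact := T.exact_of_f_is_kernel (kernelIsKernel _), epi_g := inferInstanceAs (Epi m) }
  haveI : Mono T.f := inferInstanceAs (Mono (kernel.ι m))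
  obtain ⟨a, ha⟩ := Ext.covariant_sequence_exact₃ _ hT (Ext.mk₀ (adj.homEquiv _ _ b')) (rfl : 0 + 1 = 1)
    (ext_of_closedSupp hsep (ClosedSupp.of_mono (kernel.ι m) hR) 0 _)
  obtain ⟨a, rfl⟩ := (Ext.mk₀_bijective _ _).2 a
  rw [Ext.mk₀_comp_mk₀] at ha
  have hab : (EtShriek.restrAlong U.ι).map a = b' := by
    apply (adj.homEquiv _ _).injective
    refine Eq.trans ?_ ((Ext.mk₀_bijective _ _).1 ha)
    rw [Adjunction.homEquiv_unit]
    exact (adj.unit.naturality a).symm
  refine ⟨Ext.mk₀ a, ?_⟩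
  change (Ext.mk₀ (EtCore.pullConst U.ι ℤ).inv).comp ((Ext.mk₀ a).mapExactFunctor (EtCoh.pull U.ι)) (zero_add 0) = _
  rw [Ext.mapExactFunctor_mk₀, Ext.mk₀_comp_mk₀]
  refine congrArg Ext.mk₀ ?_
  have hn := ρ.hom.naturality a
  rw [hab] at hn
  rw [← cancel_epi (ρ.hom.app (EtCoh.const X ℤ) ≫ (EtCore.pullConst U.ι ℤ).hom)]
  simp only [Category.assoc, Iso.hom_inv_id_assoc]
  rw [← hn]
  simp [b']
  exact (congrArg (b ≫ ·) (ρ.inv_hom_id_app R)).trans (Category.comp_id b)

variable [JacobsonSpace X] (hdim : topologicalKrullDim X ≤ 1)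

include hsep hdim in
/-- Surjectivity for a direct image from a maximal point. -/
theorem surjective_Hpull_pushMax (U : X.Opens) [PreservesFiniteLimits (EtCoh.pull U.ι)]
    (x : X) (hx : ∀ y, y ⤳ x → y = x) (hN : ∀ p : ℕ, p.Prime → NormSurj p (X.residueField x))
    (G : EtCoh.Ab (Spec (X.residueField x))) (hG : EtCoh.IsTorsion G) :
    Function.Surjective (EtCore.Hpull U.ι ((EtCoh.push (X.fromSpecResidueField x)).obj G) 2) := by
  let f := X.fromSpecResidueField x
  let S := injS G
  have hS := injS_shortExact G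
  haveI : Injective S.X₂ := inferInstanceAs (Injective (Injective.under G))
  haveI : Injective ((EtCoh.push f).obj S.X₂) := GrothLib.EtDer.injective_push f S.X₂
  haveI : PreservesFiniteLimits (EtCoh.push f) :=
    ((EtCoh.pullPushAdj f).rightAdjoint_preservesLimits : PreservesLimitsOfSize.{0, 0} _).preservesFiniteLimits
  haveI : Mono ((EtCoh.push f).map S.f) := (EtCoh.push f).map_mono S.f
  let m := (EtCoh.push f).map S.f
  let T := ShortComplex.mk m (cokernel.π m) (cokernel.condition m)
  have hT : T.ShortExact := { exact := T.exact_of_g_is_cokernel (cokernelIsCokernel _) }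
  have hex := hS.exact.map_of_mono_of_preservesKernel (EtCoh.push f) inferInstance inferInstance
  let b : T.X₃ ⟶ (EtCoh.push f).obj S.X₃ := cokernel.desc m ((EtCoh.push f).map S.g)
    (by rw [← Functor.map_comp, S.zero, Functor.map_zero])
  haveI : Mono b := hex.mono_cokernelDesc
  let R := ShortComplex.mk b (cokernel.π b) (cokernel.condition b)
  have hR : R.ShortExact := { exact := R.exact_of_g_is_cokernel (cokernelIsCokernel _) }
  have hC : ∀ (Ω : Type u) [Field Ω] [IsSepClosed Ω] (ξ : Spec (CommRingCat.of Ω) ⟶ X),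
      ¬ IsClosed ({ξ.base (default : Spec (CommRingCat.of Ω))} : Set X) → IsZero ((EtCoh.stalk ξ).obj R.X₃) := by
    intro Ω _ _ ξ hnc
    haveI : Epi R.g := inferInstanceAs (Epi (cokernel.π b))
    refine IsZero.of_epi_eq_zero ((EtCoh.stalk ξ).map R.g) ?_
    by_cases hξ : ξ.base (default : Spec (CommRingCat.of Ω)) = x
    · obtain ⟨ζ, hζ⟩ : ∃ ζ, ζ ≫ f = ξ := exists_lift_residue ξ x hξ
      haveI hcI : ∀ H : EtCoh.Ab (Spec (X.residueField x)), IsIso ((EtCoh.pullPushAdj f).counit.app H) :=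
        fun H => isIso_counit_maxPt x hx H
      haveI : Epi S.g := hS.epi_g
      haveI : Epi ((EtCoh.pull f).map ((EtCoh.push f).map S.g)) := by
        have hnat : (EtCoh.pull f).map ((EtCoh.push f).map S.g) ≫ (EtCoh.pullPushAdj f).counit.app S.X₃ =
            (EtCoh.pullPushAdj f).counit.app S.X₂ ≫ S.g := (EtCoh.pullPushAdj f).counit.naturality S.g
        have e : (EtCoh.pull f).map ((EtCoh.push f).map S.g) =
            (EtCoh.pullPushAdj f).counit.app S.X₂ ≫ S.g ≫ inv ((EtCoh.pullPushAdj f).counit.app S.X₃) := by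
          rw [← Category.assoc, ← hnat, Category.assoc, IsIso.hom_inv_id, Category.comp_id]
        rw [e]
        infer_instance
      haveI : Epi ((EtCoh.stalk ζ).map ((EtCoh.pull f).map ((EtCoh.push f).map S.g))) := inferInstance
      subst hζ
      haveI : Epi ((EtCoh.stalk (ζ ≫ f)).map ((EtCoh.push f).map S.g)) := by
        have e : (EtCoh.stalk (ζ ≫ f)).map ((EtCoh.push f).map S.g) =
            (pullStalkIso ζ f).inv.app _ ≫ (EtCoh.stalk ζ).map ((EtCoh.pull f).map ((EtCoh.push f).map S.g)) ≫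
              (pullStalkIso ζ f).hom.app _ := by
          have hn := (pullStalkIso ζ f).hom.naturality ((EtCoh.push f).map S.g)
          rw [show (EtCoh.stalk ζ).map ((EtCoh.pull f).map ((EtCoh.push f).map S.g)) ≫
              (pullStalkIso ζ f).hom.app ((EtCoh.push f).obj S.X₃) = _ from hn]
          exact (Iso.inv_hom_id_app_assoc (pullStalkIso ζ f) _ _).symm
        rw [e]
        infer_instance
      rw [← cancel_epi ((EtCoh.stalk (ζ ≫ f)).map ((EtCoh.push f).map S.g)), comp_zero, ← Functor.map_comp]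
      have e2 : (EtCoh.push f).map S.g = cokernel.π m ≫ b := (cokernel.π_desc _ _ _).symm
      change (EtCoh.stalk (ζ ≫ f)).map ((EtCoh.push f).map S.g ≫ cokernel.π b) = 0
      rw [e2, Category.assoc, cokernel.condition, comp_zero, Functor.map_zero]
    · exact (isZero_stalk_push_of_not_specializes x ξ
        (not_specializes_of_ne hdim x _ hx hnc hξ) _).eq_of_src _ _
  intro ξ
  have hT' := hT.map_of_exact (EtCoh.pull U.ι)
  have hR' := hR.map_of_exact (EtCoh.pull U.ι)
  haveI : Injective (T.map (EtCoh.pull U.ι)).X₂ :=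
    GrothLib.EtDer.injective_pull_etale U.ι ((EtCoh.push f).obj S.X₂)
  obtain ⟨w, rfl⟩ := Ext.covariant_sequence_exact₁ _ hT' ξ (Ext.eq_zero_of_injective _) (rfl : 1 + 1 = 2)
  have hQ : ∀ z : EtCoh.H U.toScheme ((EtCoh.pull U.ι).obj ((EtCoh.push f).obj S.X₃)) 1, z = 0 := by
    by_cases hxU : x ∈ U
    · let f' : Spec (X.residueField x) ⟶ U.toScheme := IsOpenImmersion.lift U.ι f (by
        rw [Scheme.Opens.range_ι, Scheme.range_fromSpecResidueField]
        exact Set.singleton_subset_iff.2 hxU)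
      have hf' : f' ≫ U.ι = f := IsOpenImmersion.lift_fac _ _ _
      haveI := GrothLib.EtDer.pullFL f'
      haveI := AcyN18.pushAdd f'
      haveI := GrothLib.EtSite.isIso_counit U.ι ((EtCoh.push f').obj S.X₃)
      let e : (EtCoh.pull U.ι).obj ((EtCoh.push f).obj S.X₃) ≅ (EtCoh.push f').obj S.X₃ :=
        (EtCoh.pull U.ι).mapIso (((EtCoh.pushCongr hf').symm.app S.X₃) ≪≫ (EtCoh.pushComp U.ι f').symm.app S.X₃) ≪≫
          asIso ((EtCoh.pullPushAdj U.ι).counit.app ((EtCoh.push f').obj S.X₃))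
      intro z
      refine (GrothLib.EtDer.bijective_comp_mk₀ e 1).1 (Eq.trans ?_ (Ext.zero_comp _ _ _ _ _).symm)
      refine GrothLib.AcyN18.injective_adjMap_one (EtCoh.pullPushAdj f') _ S.X₃ (Eq.trans ?_ (map_zero _).symm)
      refine (GrothLib.AcyN18.bijective_preMk₀ (EtCore.pullConst f' ℤ).symm 1).1 (Eq.trans ?_ (Ext.comp_zero _ _ _ _ _).symm)
      have hK1 : ∀ y : EtCoh.H (Spec (X.residueField x)) S.X₃ 1, y = 0 := fun y => by
        obtain ⟨y', hy⟩ := Ext.covariant_sequence_exact₃ _ hS y rfl (H_torsion_eq_zero hN G hG 2 le_rfl _)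
        rw [← hy, Ext.eq_zero_of_injective y', Ext.zero_comp]
      exact hK1 _
    · have hz : IsZero ((EtCoh.pull U.ι).obj ((EtCoh.push f).obj S.X₃)) := by
        rw [IsZero.iff_id_eq_zero]
        ext V s
        refine GrothLib.EtSite.section_eq_zero_of_germs _ V.unop _ fun Ω _ _ ξ t => ?_
        refine @Subsingleton.elim _ (AddCommGrpCat.subsingleton_of_isZero (IsZero.of_iso ?_
          ((pullStalkIso ξ U.ι).app _))) _ _
        refine isZero_stalk_push_of_not_specializes x (ξ ≫ U.ι) (fun hs => hxU ?_) _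
        exact hs.mem_open U.isOpen (ξ.base default).2
      intro z
      rw [← Ext.comp_mk₀_id z, hz.eq_of_src (𝟙 _) 0, Ext.mk₀_zero, Ext.comp_zero]
  obtain ⟨s, rfl⟩ := Ext.covariant_sequence_exact₁ _ hR' w (hQ _) (rfl : 0 + 1 = 1)
  obtain ⟨s', rfl⟩ := surjective_Hpull_zero hsep U (R := R.X₃) hC s
  refine ⟨(s'.comp hR.extClass rfl).comp hT.extClass rfl, ?_⟩
  rw [GrothLib.EtDer.Hpull_extClass U.ι hT, GrothLib.EtDer.Hpull_extClass U.ι hR]

include hsep hdim in
/-- The second cohomology of a torsion sheaf restricts onto that of an open. -/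
theorem surjective_Hpull_two (hN : ∀ x : MaxPts X, ∀ p : ℕ, p.Prime → NormSurj p (X.residueField x.1))
    (F : EtCoh.Ab X) (hF : EtCoh.IsTorsion F) (U : X.Opens) [PreservesFiniteLimits (EtCoh.pull U.ι)] :
    Function.Surjective (EtCore.Hpull U.ι F 2) := by
  classical
  haveI : Fintype (MaxPts X) := Fintype.ofFinite _
  haveI : IsLocallyNoetherian U.toScheme := LocallyOfFiniteType.isLocallyNoetherian U.ι
  haveI : CompactSpace U.toScheme :=
    isCompact_iff_compactSpace.1 (TopologicalSpace.NoetherianSpace.isCompact (U : Set X))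
  haveI : AlgebraicGeometry.IsNoetherian U.toScheme := {}
  have hsepU := hsep_open hsep U
  let G : MaxPts X → EtCoh.Ab X := fun x =>
    (EtCoh.push (X.fromSpecResidueField x.1)).obj ((EtCoh.pull (X.fromSpecResidueField x.1)).obj F)
  let φ : F ⟶ ⨁ G := biproduct.lift fun x => (EtCoh.pullPushAdj (X.fromSpecResidueField x.1)).unit.app F
  have htot : ∑ j, biproduct.π G j ≫ biproduct.ι G j = 𝟙 (⨁ G) := IsBilimit.total (biproduct.isBilimit G)
  have hiso : ∀ (Ω : Type u) [Field Ω] [IsSepClosed Ω] (ξ : Spec (CommRingCat.of Ω) ⟶ X),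
      ¬ IsClosed ({ξ.base (default : Spec (CommRingCat.of Ω))} : Set X) → IsIso ((EtCoh.stalk ξ).map φ) := by
    intro Ω _ _ ξ hnc
    let x₀ := ξ.base (default : Spec (CommRingCat.of Ω))
    let i₀ : MaxPts X := ⟨x₀, fun y hy => maximal_of_not_isClosed hdim x₀ hnc y hy⟩
    have hzero : ∀ i : MaxPts X, i ≠ i₀ → IsZero ((EtCoh.stalk ξ).obj (G i)) := fun i hi =>
      isZero_stalk_push_of_not_specializes i.1 ξ (fun hs => hi (Subtype.ext (i₀.2 _ hs))) _
    haveI : IsIso ((EtCoh.stalk ξ).map (biproduct.π G i₀)) := by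
      refine ⟨(EtCoh.stalk ξ).map (biproduct.ι G i₀), ?_, ?_⟩
      · rw [← Functor.map_comp, ← CategoryTheory.Functor.map_id, ← htot, Functor.map_sum, Finset.sum_eq_single i₀]
        · intro i _ hi
          rw [Functor.map_comp, (hzero i hi).eq_of_tgt ((EtCoh.stalk ξ).map (biproduct.π G i)) 0, zero_comp]
        · exact fun h => absurd (Finset.mem_univ _) h
      · rw [← Functor.map_comp, biproduct.ι_π_self, CategoryTheory.Functor.map_id]
    let f := X.fromSpecResidueField i₀.1
    obtain ⟨ζ, hζ⟩ : ∃ ζ, ζ ≫ f = ξ := exists_lift_residue ξ i₀.1 rfl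
    haveI : IsIso ((EtCoh.stalk ξ).map ((EtCoh.pullPushAdj f).unit.app F)) := by
      rw [← hζ]
      haveI := isIso_counit_maxPt i₀.1 i₀.2 ((EtCoh.pull f).obj F)
      haveI : IsIso (𝟙 ((EtCoh.pull f).obj F)) := IsIso.id _
      haveI : IsIso ((EtCoh.pull f).map ((EtCoh.pullPushAdj f).unit.app F)) :=
        IsIso.of_isIso_fac_right ((EtCoh.pullPushAdj f).left_triangle_components F)
      exact (NatIso.isIso_map_iff (pullStalkIso ζ f) _).1
        (inferInstanceAs (IsIso ((EtCoh.stalk ζ).map ((EtCoh.pull f).map ((EtCoh.pullPushAdj f).unit.app F)))))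
    have e : (EtCoh.stalk ξ).map φ ≫ (EtCoh.stalk ξ).map (biproduct.π G i₀) =
        (EtCoh.stalk ξ).map ((EtCoh.pullPushAdj f).unit.app F) := by
      rw [← Functor.map_comp, biproduct.lift_π]
    exact IsIso.of_isIso_fac_right e
  let K := ShortComplex.mk (kernel.ι φ) (Abelian.factorThruImage φ) (by
    rw [← cancel_mono (Abelian.image.ι φ), Category.assoc, Abelian.image.fac, kernel.condition, zero_comp])
  have hK : K.ShortExact := by
    refine { exact := K.exact_of_f_is_kernel ?_ }
    exact isKernelOfComp (Abelian.image.ι φ) φ (kernelIsKernel φ) K.zero (Abelian.image.fac φ)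
  let C := ShortComplex.mk (Abelian.image.ι φ) (cokernel.π φ) (kernel.condition _)
  have hC : C.ShortExact := { exact := C.exact_of_f_is_kernel (kernelIsKernel _) }
  have hQ1 : ∀ (Ω : Type u) [Field Ω] [IsSepClosed Ω] (ξ : Spec (CommRingCat.of Ω) ⟶ X),
      ¬ IsClosed ({ξ.base (default : Spec (CommRingCat.of Ω))} : Set X) → IsZero ((EtCoh.stalk ξ).obj C.X₃) := by
    intro Ω _ _ ξ hnc
    haveI := hiso Ω ξ hnc
    refine IsZero.of_epi_eq_zero ((EtCoh.stalk ξ).map (cokernel.π φ)) ?_
    rw [← cancel_epi ((EtCoh.stalk ξ).map φ), ← Functor.map_comp, cokernel.condition, Functor.map_zero, comp_zero]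
  have hQ2 : ∀ (Ω : Type u) [Field Ω] [IsSepClosed Ω] (ξ : Spec (CommRingCat.of Ω) ⟶ X),
      ¬ IsClosed ({ξ.base (default : Spec (CommRingCat.of Ω))} : Set X) → IsZero ((EtCoh.stalk ξ).obj K.X₁) := by
    intro Ω _ _ ξ hnc
    haveI := hiso Ω ξ hnc
    refine IsZero.of_mono_eq_zero ((EtCoh.stalk ξ).map (kernel.ι φ)) ?_
    rw [← cancel_mono ((EtCoh.stalk ξ).map φ), ← Functor.map_comp, kernel.condition, Functor.map_zero, zero_comp]
  intro ξ
  have hK' := hK.map_of_exact (EtCoh.pull U.ι)
  have hC' := hC.map_of_exact (EtCoh.pull U.ι)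
  let P := EtCoh.pull U.ι
  obtain ⟨p, hp⟩ : ∃ p, EtCore.Hpull U.ι (⨁ G) 2 p = Ext.comp ξ (Ext.mk₀ (P.map φ)) (add_zero 2) := by
    let z := Ext.comp ξ (Ext.mk₀ (P.map φ)) (add_zero 2)
    choose p hp using fun i : MaxPts X =>
      surjective_Hpull_pushMax hsep hdim U i.1 i.2 (hN i) _ (isTorsion_pull _ hF)
        (Ext.comp z (Ext.mk₀ (P.map (biproduct.π G i))) (add_zero 2))
    refine ⟨∑ i, Ext.comp (p i) (Ext.mk₀ (biproduct.ι G i)) (add_zero 2), ?_⟩
    change _ = z
    rw [map_sum]
    simp only [GrothLib.EtDer.Hpull_mk₀, hp, Ext.comp_assoc_of_third_deg_zero, Ext.mk₀_comp_mk₀, P, ← Functor.map_comp]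
    rw [← Ext.comp_sum, ← Ext.mk₀_sum, ← Functor.map_sum, htot, CategoryTheory.Functor.map_id, Ext.comp_mk₀_id]
  obtain ⟨i, hi⟩ := Ext.covariant_sequence_exact₂ _ hC p (ext_of_closedSupp hsep hQ1 1 _)
  obtain ⟨a, ha⟩ := Ext.covariant_sequence_exact₃ _ hK i (rfl : 2 + 1 = 3) (ext_of_closedSupp hsep hQ2 2 _)
  have hfac : K.g ≫ C.f = φ := Abelian.image.fac φ
  have hap : Ext.comp a (Ext.mk₀ φ) (add_zero 2) = p := by
    rw [← hfac, ← Ext.mk₀_comp_mk₀, ← Ext.comp_assoc_of_second_deg_zero, ha, hi]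
  refine ⟨a, (sub_eq_zero.1 ?_).symm⟩
  let d := ξ - EtCore.Hpull U.ι F 2 a
  change d = 0
  have hdφ : Ext.comp d (Ext.mk₀ (P.map φ)) (add_zero 2) = 0 := by
    simp only [d, sub_eq_add_neg, Ext.add_comp, Ext.neg_comp]
    rw [← GrothLib.EtDer.Hpull_mk₀, hap, hp, add_neg_cancel]
  have h1 : Ext.comp d (Ext.mk₀ (K.map P).g) (add_zero 2) = 0 := by
    obtain ⟨w, hw⟩ := Ext.covariant_sequence_exact₁ _ hC' (Ext.comp d (Ext.mk₀ (K.map P).g) (add_zero 2)) (by
      rw [Ext.comp_assoc_of_second_deg_zero, Ext.mk₀_comp_mk₀]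
      change Ext.comp d (Ext.mk₀ (P.map K.g ≫ P.map C.f)) _ = 0
      rw [← Functor.map_comp, hfac]
      exact hdφ) (rfl : 1 + 1 = 2)
    rw [← hw, ext_of_closedSupp hsepU (ClosedSupp.pull hQ1 U) 0 w, Ext.zero_comp]
  obtain ⟨z, hz⟩ := Ext.covariant_sequence_exact₂ _ hK' d h1
  rw [← hz, ext_of_closedSupp hsepU (ClosedSupp.pull hQ2 U) 1 z, Ext.zero_comp]

end GrothLib.CurveH2Surj18
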